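import Mathlib

/-!
# Serre's splitting: free submodules with locally free quotient in small height
-/

open Module Submodule

universe u

namespace GrothLib.BassSplit

variable {A : Type u} [CommRing A] {M : Type u} [AddCommGroup M] [Module A M]

/-- The row of values of a functional, read at a prime. -/
noncomputable def row (p : PrimeSpectrum A) {n : ℕ} (m : Fin n → M) (φ : M →ₗ[A] A) :
    Fin n → p.asIdeal.ResidueField :=
  fun i => algebraMap A _ (φ (m i))

/-- The span of the rows of values of all functionals. -/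
noncomputable def rowSpace (p : PrimeSpectrum A) {n : ℕ} (m : Fin n → M) :
    Submodule p.asIdeal.ResidueField (Fin n → p.asIdeal.ResidueField) :=
  span _ (Set.range (row p m))

/-- The minors of size at least `d + 1`. -/
def minorIdeal {n : ℕ} (m : Fin n → M) (d : ℕ) : Ideal A :=
  Ideal.span {x | ∃ (Q : Matrix (Fin n) (Fin n) A) (σ : Fin (d + 1) → Fin n), Function.Injective σ ∧
    (∀ j, ∃ φ : M →ₗ[A] A, Q (σ j) = fun i => φ (m i)) ∧ Q.det = x}

theorem minorIdeal_le_iff (p : PrimeSpectrum A) {n : ℕ} (m : Fin n → M) (d : ℕ) :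
    minorIdeal m d ≤ p.asIdeal ↔ finrank p.asIdeal.ResidueField (rowSpace p m) ≤ d := by
  classical
  let κ := p.asIdeal.ResidueField
  refine ⟨fun h => ?_, fun h => Ideal.span_le.2 ?_⟩
  · by_contra hd
    obtain ⟨b, hb, hbs, hbl⟩ := exists_linearIndependent κ (Set.range (row p m))
    let T : Set (Fin n → κ) := Set.range fun x : Fin n → A => fun i => algebraMap A κ (x i)
    have hbT : b ⊆ T := fun v hv => by obtain ⟨φ, rfl⟩ := hb hv; exact ⟨fun i => φ (m i), rfl⟩
    obtain ⟨c, hcT, hbc, hTc, hcl⟩ := exists_linearIndepOn_id_extension (K := κ) hbl hbT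
    have hspan : span κ T = ⊤ := by
      rw [eq_top_iff, ← (Pi.basisFun κ (Fin n)).span_eq, span_le]
      rintro _ ⟨i, rfl⟩
      exact subset_span ⟨Pi.single i 1, by ext j; simp [Pi.single_apply, apply_ite]⟩
    have hc' : span κ c = ⊤ := eq_top_iff.2 (hspan ▸ span_le.2 hTc)
    have hli : LinearIndependent κ ((↑) : c → Fin n → κ) := hcl
    let B : Basis c κ (Fin n → κ) := Basis.mk hli (by rw [Subtype.range_coe, hc'])
    have : Fintype c := FiniteDimensional.fintypeBasisIndex B
    have hcard : Fintype.card c = n := by rw [← finrank_eq_card_basis B, finrank_fin_fun]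
    let e : Fin n ≃ c := (Fintype.equivFinOfCardEq hcard).symm
    have : Fintype b := (c.toFinite.subset hbc).fintype
    have hbcard : d < Fintype.card b := by
      have h1 : finrank κ (span κ b) = Fintype.card b := by
        have := finrank_span_set_eq_card (R := κ) hbl
        rw [this, Set.toFinset_card]
      rw [hbs] at h1
      rw [← h1]
      exact not_le.1 hd
    let ι' : Fin (d + 1) → b := (Fintype.equivFin b).symm ∘ Fin.castLE hbcard
    have hι : Function.Injective ι' := (Equiv.injective _).comp (Fin.castLE_injective _)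
    let σ : Fin (d + 1) → Fin n := fun j => e.symm ⟨(ι' j).1, hbc (ι' j).2⟩
    have hσ : Function.Injective σ := fun i j h => hι (Subtype.ext (congrArg (fun q => q.1) (e.symm.injective h)))
    have hφ : ∀ j, ∃ φ : M →ₗ[A] A, row p m φ = (ι' j).1 := fun j => hb (ι' j).2
    choose φ hφ using hφ
    have hQ : ∀ i, ∃ x : Fin n → A, (fun a => algebraMap A κ (x a)) = (e i).1 ∧
        ∀ j, σ j = i → x = fun a => φ j (m a) := fun i => by
      by_cases hi : ∃ j, σ j = i
      · obtain ⟨j, rfl⟩ := hi
        refine ⟨fun a => φ j (m a), ?_, fun j' hj' => by rw [hσ hj']⟩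
        simpa [σ, row, funext_iff, κ] using hφ j
      · obtain ⟨x, hx⟩ := hcT (e i).2
        exact ⟨x, hx, fun j hj => (hi ⟨j, hj⟩).elim⟩
    choose Q hQ1 hQ2 using hQ
    have hmem : (Matrix.of Q).det ∈ p.asIdeal :=
      h (Ideal.subset_span ⟨Matrix.of Q, σ, hσ, fun j => ⟨φ j, hQ2 _ j rfl⟩, rfl⟩)
    rw [← Ideal.algebraMap_residueField_eq_zero (I := p.asIdeal), RingHom.map_det] at hmem
    have hunit : IsUnit ((algebraMap A κ).mapMatrix (Matrix.of Q)) := by
      rw [← Matrix.linearIndependent_rows_iff_isUnit]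
      convert hli.comp e e.injective
      ext i a
      exact congrFun (hQ1 i) a
    exact ((Matrix.isUnit_iff_isUnit_det _).1 hunit).ne_zero hmem
  · rintro x ⟨Q, σ, hσ, hφ, rfl⟩
    show Q.det ∈ p.asIdeal
    rw [← Ideal.algebraMap_residueField_eq_zero (I := p.asIdeal), RingHom.map_det]
    by_contra hne
    have hli := (Matrix.linearIndependent_rows_of_det_ne_zero hne).comp σ hσ
    have h1 := finrank_span_eq_card hli
    have h2 : span p.asIdeal.ResidueField (Set.range ((fun i => (algebraMap A p.asIdeal.ResidueField).mapMatrix Q i) ∘ σ))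
        ≤ rowSpace p m := span_le.2 (by
      rintro _ ⟨j, rfl⟩
      obtain ⟨φ, hφ⟩ := hφ j
      refine subset_span ⟨φ, ?_⟩
      ext i
      exact congrArg (algebraMap A κ) (congrFun hφ i).symm)
    have := Submodule.finrank_mono h2
    rw [h1, Fintype.card_fin] at this
    omega

/-- The linear map of fibres induced by eliminating the last element. -/
noncomputable def elim (p : PrimeSpectrum A) {n : ℕ} (a : Fin n → A) :
    (Fin (n + 1) → p.asIdeal.ResidueField) →ₗ[p.asIdeal.ResidueField] (Fin n → p.asIdeal.ResidueField) :=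
  LinearMap.pi fun i => LinearMap.proj i.castSucc + algebraMap A p.asIdeal.ResidueField (a i) • LinearMap.proj (Fin.last n)

/-- The elimination of the last element. -/
def reduce {n : ℕ} (m : Fin (n + 1) → M) (a : Fin n → A) : Fin n → M :=
  fun i => m i.castSucc + a i • m (Fin.last n)

theorem rowSpace_reduce (p : PrimeSpectrum A) {n : ℕ} (m : Fin (n + 1) → M) (a : Fin n → A) :
    rowSpace p (reduce m a) = (rowSpace p m).map (elim p a) := by
  rw [rowSpace, rowSpace, map_span, ← Set.range_comp]
  congr 1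
  refine congrArg Set.range (funext fun φ => ?_)
  ext i
  simp [row, elim, reduce, map_add, map_mul, Algebra.smul_def]

/-- The vector killed by `elim`. -/
noncomputable def kerVec (p : PrimeSpectrum A) {n : ℕ} (a : Fin n → A) : Fin (n + 1) → p.asIdeal.ResidueField :=
  Fin.snoc (fun i => -algebraMap A _ (a i)) 1

theorem mem_span_kerVec (p : PrimeSpectrum A) {n : ℕ} (a : Fin n → A) {v : Fin (n + 1) → p.asIdeal.ResidueField}
    (h : elim p a v = 0) : v = v (Fin.last n) • kerVec p a := by
  ext i
  refine Fin.lastCases (by simp [kerVec]) (fun j => ?_) i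
  have := congrFun h j
  simp only [elim, LinearMap.pi_apply, LinearMap.add_apply, LinearMap.proj_apply, LinearMap.smul_apply,
    Pi.zero_apply, smul_eq_mul] at this
  rw [Pi.smul_apply, smul_eq_mul, kerVec, Fin.snoc_castSucc, mul_neg, mul_comm]
  exact eq_neg_of_add_eq_zero_left this

theorem finrank_le_elim_succ (p : PrimeSpectrum A) {n : ℕ} (a : Fin n → A)
    (R : Submodule p.asIdeal.ResidueField (Fin (n + 1) → p.asIdeal.ResidueField)) :
    finrank p.asIdeal.ResidueField R ≤ finrank p.asIdeal.ResidueField (R.map (elim p a)) + 1 ∧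
      (kerVec p a ∉ R → finrank p.asIdeal.ResidueField R ≤ finrank p.asIdeal.ResidueField (R.map (elim p a))) := by
  let κ := p.asIdeal.ResidueField
  let f := (elim p a).domRestrict R
  have hr : LinearMap.range f = R.map (elim p a) := LinearMap.range_domRestrict _ _
  have h1 := f.finrank_range_add_finrank_ker
  rw [hr] at h1
  constructor
  · have : finrank p.asIdeal.ResidueField (LinearMap.ker f) ≤ 1 := by
      have h2 : (LinearMap.ker f).map R.subtype ≤ span κ {kerVec p a} := by
        rintro _ ⟨v, hv, rfl⟩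
        exact mem_span_singleton.2 ⟨_, (mem_span_kerVec p a (v := v.1) hv).symm⟩
      have := (LinearEquiv.finrank_eq (Submodule.equivMapOfInjective _ R.injective_subtype (LinearMap.ker f))).le.trans
        (Submodule.finrank_mono h2)
      exact this.trans (finrank_span_le_card ({kerVec p a} : Set _) |>.trans (by simp))
    omega
  · intro hk
    have : LinearMap.ker f = ⊥ := by
      refine LinearMap.ker_eq_bot'.2 fun v hv => Subtype.ext ?_
      have h2 := mem_span_kerVec p a (v := v.1) hv
      by_cases hz : v.1 (Fin.last n) = 0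
      · rw [h2, hz, zero_smul]; rfl
      · refine (hk ?_).elim
        rw [show kerVec p a = (v.1 (Fin.last n))⁻¹ • v.1 from (eq_inv_smul_iff₀ hz).2 h2.symm]
        exact R.smul_mem _ v.2
    rw [this, finrank_bot] at h1
    omega

theorem exists_good_of_bad (p : PrimeSpectrum A) {n : ℕ} (a : Fin n → A)
    (R : Submodule p.asIdeal.ResidueField (Fin (n + 1) → p.asIdeal.ResidueField))
    (hR : finrank p.asIdeal.ResidueField R ≤ n) {t : A} (ht : t ∉ p.asIdeal) :
    ∃ δ : Fin n → A, kerVec p (a + t • δ) ∉ R := by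
  classical
  by_cases ha : kerVec p a ∈ R
  swap
  · exact ⟨0, by simpa using ha⟩
  by_contra hno
  push Not at hno
  let κ := p.asIdeal.ResidueField
  have ht' : algebraMap A κ t ≠ 0 := fun h => ht (Ideal.algebraMap_residueField_eq_zero.1 h)
  have he : ∀ j : Fin n, (Pi.single j.castSucc 1 : Fin (n + 1) → κ) ∈ R := fun j => by
    have h := R.smul_mem (algebraMap A κ t)⁻¹ (R.sub_mem ha (hno (Pi.single j 1)))
    convert h using 1
    ext i
    refine Fin.lastCases ?_ (fun i => ?_) i
    · simp [kerVec, Pi.single_apply, (Fin.castSucc_lt_last j).ne]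
    · rcases eq_or_ne i j with rfl | hij
      · simpa [kerVec] using (inv_mul_cancel₀ ht').symm
      · simp [kerVec, hij]
  have htop : ⊤ ≤ R := by
    rw [← (Pi.basisFun κ (Fin (n + 1))).span_eq, span_le]
    rintro _ ⟨i, rfl⟩
    refine Fin.lastCases ?_ (fun j => by simpa using he j) i
    have h : kerVec p a - ∑ j : Fin n, (-algebraMap A κ (a j)) • (Pi.single j.castSucc 1 : Fin (n + 1) → κ) ∈ R :=
      R.sub_mem ha (R.sum_mem fun j _ => R.smul_mem _ (he j))
    rw [SetLike.mem_coe]
    convert h using 1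
    ext i
    refine Fin.lastCases ?_ (fun i => ?_) i <;> simp [kerVec, Pi.single_apply, Finset.sum_apply, eq_comm, Algebra.smul_def, κ]
  have := Submodule.finrank_mono htop
  simp at this
  omega

/-- Simultaneous choice at finitely many primes. -/
theorem exists_simultaneous {n : ℕ} (s : Finset (PrimeSpectrum A))
    (R : ∀ p : PrimeSpectrum A, Submodule p.asIdeal.ResidueField (Fin (n + 1) → p.asIdeal.ResidueField))
    (hR : ∀ p ∈ s, finrank p.asIdeal.ResidueField (R p) ≤ n) :
    ∃ a : Fin n → A, ∀ p ∈ s, kerVec p a ∉ R p := by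
  classical
  induction s using Finset.strongInduction with
  | _ s ih =>
    rcases s.eq_empty_or_nonempty with rfl | hne
    · exact ⟨0, by simp⟩
    obtain ⟨p, hp, hmin⟩ := s.exists_minimal hne
    obtain ⟨a, ha⟩ := ih (s.erase p) (Finset.erase_ssubset hp) fun q hq => hR q (Finset.mem_of_mem_erase hq)
    obtain ⟨t, ht, htp⟩ : ∃ t ∈ ⨅ q ∈ s.erase p, (q : PrimeSpectrum A).asIdeal, t ∉ p.asIdeal := by
      by_contra! h
      have h' : (s.erase p).inf (fun q => q.asIdeal) ≤ p.asIdeal := by
        rw [Finset.inf_eq_iInf]; exact h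
      obtain ⟨q, hq, hqp⟩ := (p.isPrime.inf_le').1 h'
      have := hmin (Finset.mem_of_mem_erase hq) hqp
      exact (Finset.ne_of_mem_erase hq) (le_antisymm hqp this)
    obtain ⟨δ, hδ⟩ := exists_good_of_bad p a (R p) (hR p hp) htp
    refine ⟨a + t • δ, fun q hq => ?_⟩
    rcases eq_or_ne q p with rfl | hqp
    · exact hδ
    have htq : algebraMap A q.asIdeal.ResidueField t = 0 := by
      rw [Ideal.algebraMap_residueField_eq_zero]
      rw [Submodule.mem_iInf] at ht
      exact (Submodule.mem_iInf _).1 (ht q) (Finset.mem_erase.2 ⟨hqp, hq⟩)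
    rw [show kerVec q (a + t • δ) = kerVec q a from funext fun i => by
      refine Fin.lastCases ?_ (fun i => ?_) i <;> simp [kerVec, htq]]
    exact ha q (Finset.mem_erase.2 ⟨hqp, hq⟩)

variable [IsNoetherianRing A]

/-- The rows at a prime of height at most `k` are numerous. -/
def Numerous (k : ℕ) {n : ℕ} (m : Fin n → M) : Prop :=
  ∀ p : PrimeSpectrum A, ∀ h : ℕ, p.asIdeal.height = h → h ≤ k →
    min n (k + 1 - h) ≤ finrank p.asIdeal.ResidueField (rowSpace p m)

theorem exists_reduce {k n : ℕ} (hn : 1 ≤ n) (m : Fin (n + 1) → M) (H : Numerous (A := A) k m) :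
    ∃ a : Fin n → A, Numerous (A := A) k (reduce m a) := by
  classical
  let bad : Set (PrimeSpectrum A) := {p | ∃ d, d ≤ n ∧ p.asIdeal ∈ (minorIdeal (A := A) m d).minimalPrimes}
  have hfin : bad.Finite := by
    have : bad ⊆ ⋃ d : Fin (n + 1), (PrimeSpectrum.asIdeal ⁻¹' (minorIdeal (A := A) m d).minimalPrimes) := by
      rintro p ⟨d, hd, h⟩
      exact Set.mem_iUnion.2 ⟨⟨d, by omega⟩, h⟩
    refine (Set.finite_iUnion fun d => ?_).subset this
    exact ((minorIdeal (A := A) m d).finite_minimalPrimes_of_isNoetherianRing A).preimage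
      (fun p _ q _ h => PrimeSpectrum.ext h)
  let s := hfin.toFinset.filter fun p => finrank p.asIdeal.ResidueField (rowSpace p m) ≤ n
  obtain ⟨a, ha⟩ := exists_simultaneous (A := A) s (fun p => rowSpace p m) fun p hp => (Finset.mem_filter.1 hp).2
  refine ⟨a, fun p h hp hk => ?_⟩
  rw [rowSpace_reduce]
  obtain ⟨h1, h2⟩ := finrank_le_elim_succ p a (rowSpace p m)
  have hH := H p h hp hk
  set d := finrank p.asIdeal.ResidueField (rowSpace p m) with hd
  rcases lt_or_ge (min n (k + 1 - h)) d with hlt | hge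
  · omega
  -- the critical case
  have hdn : d ≤ n := by omega
  have hmin : p.asIdeal ∈ (minorIdeal (A := A) m d).minimalPrimes := by
    refine ⟨⟨p.isPrime, (minorIdeal_le_iff p m d).2 hd.ge⟩, ?_⟩
    rintro q ⟨hq, hIq⟩ hqp
    by_contra hne
    have hlt' : q < p.asIdeal := lt_of_le_of_ne hqp fun h => hne h.ge
    have hqd := (minorIdeal_le_iff ⟨q, hq⟩ m d).1 hIq
    have hhlt : q.height < (h : ℕ∞) := hp ▸ Ideal.height_strict_mono_of_isPrime hlt'
    obtain ⟨hq', hq''⟩ := ENat.ne_top_iff_exists.1 hhlt.ne_top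
    have hlt2 : hq' < h := by rw [← hq''] at hhlt; exact_mod_cast hhlt
    have := H ⟨q, hq⟩ hq' hq''.symm (by omega)
    omega
  have := h2 (ha p (Finset.mem_filter.2 ⟨hfin.mem_toFinset.2 ⟨d, hdn, hmin⟩, hdn⟩))
  omega

theorem exists_basic {k n : ℕ} (hn : 1 ≤ n) (m : Fin n → M) (H : Numerous (A := A) k m) :
    ∃ s : M, ∀ p : PrimeSpectrum A, p.asIdeal.height ≤ k → ∃ φ : M →ₗ[A] A, φ s ∉ p.asIdeal := by
  induction n with
  | zero => omega
  | succ n ih =>
    rcases Nat.eq_zero_or_pos n with rfl | hn'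
    · refine ⟨m 0, fun p hp => ?_⟩
      obtain ⟨h, hh⟩ := ENat.ne_top_iff_exists.1 (ne_top_of_le_ne_top (ENat.natCast_ne_top k) hp)
      have hhk : h ≤ k := by rw [← hh] at hp; exact_mod_cast hp
      have := H p h hh.symm hhk
      by_contra! hno
      have h0 : rowSpace p m = ⊥ := by
        rw [rowSpace, Submodule.span_eq_bot]
        rintro _ ⟨φ, rfl⟩
        ext i
        rw [Fin.eq_zero i]
        exact Ideal.algebraMap_residueField_eq_zero.2 (hno φ)
      rw [h0, finrank_bot] at this
      omega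
    · obtain ⟨a, ha⟩ := exists_reduce hn' m H
      exact ih hn' _ ha

section Split

variable [Module.Finite A M]

open IsLocalRing in
/-- Enough functionals at a prime where the module is free. -/
theorem finrank_rowSpace_ge_of_free (p : PrimeSpectrum A) {r n : ℕ} (m : Fin n → M)
    (hm : span A (Set.range m) = ⊤)
    (e : LocalizedModule p.asIdeal.primeCompl M ≃ₗ[Localization.AtPrime p.asIdeal]
      (Fin r → Localization.AtPrime p.asIdeal)) :
    r ≤ finrank p.asIdeal.ResidueField (rowSpace p m) := by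
  classical
  let Ap := Localization.AtPrime p.asIdeal
  let κ := p.asIdeal.ResidueField
  let f := LocalizedModule.mkLinearMap p.asIdeal.primeCompl M
  have : Module.FinitePresentation A M := Module.finitePresentation_of_finite A M
  have hlift : ∀ a : Fin r, ∃ (φ : M →ₗ[A] A) (s : p.asIdeal.primeCompl),
      ∀ x, algebraMap A Ap (φ x) = s.1 • e (f x) a := fun a => by
    obtain ⟨h, s, hs⟩ := Module.FinitePresentation.exists_lift_of_isLocalizedModule p.asIdeal.primeCompl
      (Algebra.linearMap A Ap) (((LinearMap.proj a).comp e.toLinearMap).restrictScalars A ∘ₗ f)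
    exact ⟨h, s, fun x => LinearMap.congr_fun hs x⟩
  choose φ s hφ using hlift
  have hsurj : ∀ b : Fin r, ∃ (x : M) (t : p.asIdeal.primeCompl), ∀ a, e (f x) a = t.1 • (Pi.single b 1 : Fin r → Ap) a :=
    fun b => by
      obtain ⟨⟨x, t⟩, hx⟩ := IsLocalizedModule.surj p.asIdeal.primeCompl f (e.symm (Pi.single b 1))
      refine ⟨x, t, fun a => ?_⟩
      change e (f x) a = _
      rw [← hx]
      have h2 : e (t.1 • e.symm (Pi.single b 1)) = t.1 • (Pi.single b 1 : Fin r → Ap) := by
        rw [← algebraMap_smul Ap t.1 (e.symm _), map_smul, e.apply_symm_apply, algebraMap_smul]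
      exact congrFun h2 a
  choose x t hx using hsurj
  have hval : ∀ a b, algebraMap A κ (φ a (x b)) = if a = b then algebraMap A κ (s a * t b) else 0 := fun a b => by
    rw [IsScalarTower.algebraMap_apply A Ap κ (φ a (x b)), hφ, hx, smul_smul, Pi.single_apply]
    split_ifs with h
    · rw [Algebra.smul_def, mul_one]; rfl
    · rw [smul_zero, map_zero]
  choose c hc using fun b => Submodule.mem_span_range_iff_exists_fun A |>.1 (hm.symm ▸ mem_top : x b ∈ span A (Set.range m))
  have hli : LinearIndependent κ fun a => row p m (φ a) := by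
    rw [Fintype.linearIndependent_iff]
    intro g hg b
    have h0 : ∑ i, algebraMap A κ (c b i) * (∑ a, g a • row p m (φ a)) i = 0 :=
      Finset.sum_eq_zero fun i _ => by rw [congrFun hg i]; exact mul_zero _
    have h1 : ∀ a, ∑ i, algebraMap A κ (c b i) * algebraMap A κ (φ a (m i)) = algebraMap A κ (φ a (x b)) := fun a => by
      rw [← hc b]; simp [map_sum, map_mul]
    have h4 : ∀ i, (∑ a, g a • row p m (φ a)) i = ∑ a, g a * algebraMap A κ (φ a (m i)) := fun i => by
      rw [Finset.sum_apply]; rfl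
    simp only [h4] at h0
    rw [Finset.sum_congr rfl (fun i _ => Finset.mul_sum _ _ _), Finset.sum_comm] at h0
    simp only [mul_left_comm _ (g _), ← Finset.mul_sum, h1, hval, mul_ite, mul_zero, Finset.sum_ite_eq',
      Finset.mem_univ, if_true, map_mul] at h0
    have hne : ∀ u : p.asIdeal.primeCompl, algebraMap A κ u.1 ≠ 0 := fun u h =>
      u.2 (Ideal.algebraMap_residueField_eq_zero.1 h)
    simpa [hne] using h0
  calc r = finrank κ (span κ (Set.range fun a => row p m (φ a))) := by
        rw [finrank_span_eq_card hli, Fintype.card_fin]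
    _ ≤ _ := Submodule.finrank_mono (span_mono (Set.range_comp_subset_range φ (row p m)))

/-- The quotient by an element some functional sends to a unit is free of rank one less. -/
theorem free_quotient (p : PrimeSpectrum A) {r : ℕ}
    (e : LocalizedModule p.asIdeal.primeCompl M ≃ₗ[Localization.AtPrime p.asIdeal]
      (Fin (r + 1) → Localization.AtPrime p.asIdeal))
    (s : M) (φ : M →ₗ[A] A) (hφ : φ s ∉ p.asIdeal) :
    Nonempty (LocalizedModule p.asIdeal.primeCompl (M ⧸ span A {s}) ≃ₗ[Localization.AtPrime p.asIdeal]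
      (Fin r → Localization.AtPrime p.asIdeal)) := by
  let S := p.asIdeal.primeCompl
  let Ap := Localization.AtPrime p.asIdeal
  let f := LocalizedModule.mkLinearMap S M
  let ψ : LocalizedModule S M →ₗ[Ap] Ap :=
    LinearMap.extendScalarsOfIsLocalization S Ap (IsLocalizedModule.map S f (Algebra.linearMap A Ap) φ)
  let v := f s
  have hψ : ψ v = algebraMap A Ap (φ s) := IsLocalizedModule.map_apply S f (Algebra.linearMap A Ap) φ s
  have hu : IsUnit (ψ v) := hψ ▸ IsLocalization.map_units Ap (⟨φ s, hφ⟩ : S)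
  obtain ⟨w, hw⟩ := hu
  have hc : IsCompl (span Ap {v}) (LinearMap.ker ψ) := by
    refine ⟨disjoint_def.2 fun y hy hy' => ?_, codisjoint_iff.2 (eq_top_iff.2 fun y _ => ?_)⟩
    · obtain ⟨c, rfl⟩ := mem_span_singleton.1 hy
      rw [LinearMap.mem_ker, map_smul, smul_eq_mul, ← hw] at hy'
      rw [Units.mul_left_eq_zero] at hy'
      rw [hy', zero_smul]
    · refine mem_sup.2 ⟨(ψ y * (↑w⁻¹ : Ap)) • v, smul_mem _ _ (mem_span_singleton_self v),
        y - (ψ y * (↑w⁻¹ : Ap)) • v, ?_, add_sub_cancel _ _⟩
      rw [LinearMap.mem_ker, map_sub, map_smul, smul_eq_mul, ← hw, mul_assoc, Units.inv_mul, mul_one, sub_self]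
  have : Module.Free Ap (LocalizedModule S M) := Module.Free.of_equiv e.symm
  have : Module.Finite Ap (LocalizedModule S M) := Module.Finite.equiv e.symm
  have : Module.Projective Ap (LinearMap.ker ψ) :=
    Module.Projective.of_split (LinearMap.ker ψ).subtype (Submodule.projectionOnto _ _ hc.symm)
      (LinearMap.ext fun y => Submodule.projectionOnto_apply_left hc.symm y)
  have : Module.Finite Ap (LinearMap.ker ψ) :=
    Module.Finite.of_surjective (Submodule.projectionOnto _ _ hc.symm)
      fun y => ⟨y, Submodule.projectionOnto_apply_left hc.symm y⟩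
  have : Module.Free Ap (LinearMap.ker ψ) := Module.free_of_flat_of_isLocalRing
  have hfr : finrank Ap (LinearMap.ker ψ) = r := by
    have hsv : ∀ c : Ap, c • v = 0 → c = 0 := fun c h => by
      have := congrArg ψ h
      rwa [map_smul, map_zero, smul_eq_mul, ← hw, Units.mul_left_eq_zero] at this
    let ev : Ap ≃ₗ[Ap] span Ap {v} := LinearEquiv.ofBijective
      ((LinearMap.toSpanSingleton Ap _ v).codRestrict _ fun c => smul_mem _ c (mem_span_singleton_self v))
      ⟨(injective_iff_map_eq_zero _).2 fun c h => hsv c (congrArg Subtype.val h), fun ⟨y, hy⟩ => by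
        obtain ⟨c, rfl⟩ := mem_span_singleton.1 hy
        exact ⟨c, rfl⟩⟩
    have h1 := (Submodule.prodEquivOfIsCompl _ _ hc).finrank_eq
    have : Module.Free Ap (span Ap {v}) := Module.Free.of_equiv ev
    have : Module.Finite Ap (span Ap {v}) := Module.Finite.equiv ev
    rw [Module.finrank_prod, ← ev.finrank_eq, Module.finrank_self, e.finrank_eq, finrank_fin_fun] at h1
    omega
  let g := (span A {s}).toLocalizedQuotient' Ap S f
  let e1 : LocalizedModule S (M ⧸ span A {s}) ≃ₗ[Ap] (LocalizedModule S M ⧸ (span A {s}).localized' Ap S f) :=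
    LinearEquiv.extendScalarsOfIsLocalization S Ap
      (IsLocalizedModule.linearEquiv S (LocalizedModule.mkLinearMap S (M ⧸ span A {s})) g)
  refine ⟨e1 ≪≫ₗ Submodule.quotEquivOfEq _ (span Ap {v}) ?_ ≪≫ₗ Submodule.quotientEquivOfIsCompl _ _ hc ≪≫ₗ
    (Module.finBasisOfFinrankEq Ap _ hfr).equivFun⟩
  rw [Submodule.localized'_span, Set.image_singleton]

theorem exists_free_submodule (k n : ℕ) (hAss : ∀ q ∈ associatedPrimes A A, q.height ≤ k) :
    ∀ (M : Type u) [AddCommGroup M] [Module A M] [Module.Finite A M],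
    (∀ p : PrimeSpectrum A, p.asIdeal.height ≤ k →
      Nonempty (LocalizedModule p.asIdeal.primeCompl M ≃ₗ[Localization.AtPrime p.asIdeal]
        (Fin (k + n) → Localization.AtPrime p.asIdeal))) →
    ∃ N : Submodule A M, Nonempty (N ≃ₗ[A] (Fin n → A)) ∧
      ∀ p : PrimeSpectrum A, p.asIdeal.height ≤ k →
        Nonempty (LocalizedModule p.asIdeal.primeCompl (M ⧸ N) ≃ₗ[Localization.AtPrime p.asIdeal]
          (Fin k → Localization.AtPrime p.asIdeal)) := by
  induction n with
  | zero =>
    intro M _ _ _ hM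
    refine ⟨⊥, ⟨LinearEquiv.ofSubsingleton _ _⟩, fun p hp => ?_⟩
    obtain ⟨e⟩ := hM p hp
    let S := p.asIdeal.primeCompl
    have : IsLocalizedModule S ((LocalizedModule.mkLinearMap S M) ∘ₗ (Submodule.quotEquivOfEqBot (⊥ : Submodule A M) rfl).toLinearMap) :=
      IsLocalizedModule.of_linearEquiv_right ..
    exact ⟨LinearEquiv.extendScalarsOfIsLocalization S (Localization.AtPrime p.asIdeal)
      (IsLocalizedModule.linearEquiv S (LocalizedModule.mkLinearMap S (M ⧸ (⊥ : Submodule A M)))
        ((LocalizedModule.mkLinearMap S M) ∘ₗ (Submodule.quotEquivOfEqBot (⊥ : Submodule A M) rfl).toLinearMap)) ≪≫ₗ e⟩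
  | succ n ih =>
    intro M _ _ _ hM
    obtain ⟨N₀, m, hm⟩ := Module.Finite.exists_fin (R := A) (M := M)
    have hnum : Numerous (A := A) k (Fin.snoc m 0 : Fin (N₀ + 1) → M) := by
      intro p h hp hh
      obtain ⟨e⟩ := hM p (hp ▸ by exact_mod_cast hh)
      have hspan : span A (Set.range (Fin.snoc m 0 : Fin (N₀ + 1) → M)) = ⊤ := eq_top_iff.2 (hm ▸ span_mono (by
        rintro _ ⟨i, rfl⟩; exact ⟨i.castSucc, by simp⟩))
      have := finrank_rowSpace_ge_of_free p _ hspan e
      omega
    obtain ⟨s, hs⟩ := exists_basic (by omega) _ hnum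
    obtain ⟨N', ⟨eN⟩, hN'⟩ := ih (M ⧸ span A {s}) fun p hp => by
      obtain ⟨e⟩ := hM p hp
      obtain ⟨φ, hφ⟩ := hs p hp
      exact free_quotient p e s φ hφ
    have hinj : ∀ c : A, c • s = 0 → c = 0 := fun c hc => by
      by_contra hc0
      obtain ⟨P, hP, hle⟩ := exists_le_isAssociatedPrime_of_isNoetherianRing A c hc0
      obtain ⟨φ, hφ⟩ := hs ⟨P, hP.isPrime⟩ (hAss P hP)
      refine hφ (hle ?_)
      rw [Submodule.mem_colon_singleton, Submodule.mem_bot, smul_eq_mul, mul_comm, ← smul_eq_mul, ← map_smul, hc, map_zero]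
    choose y hy using fun i : Fin n => Submodule.Quotient.mk_surjective (span A {s}) (eN.symm (Pi.single i 1)).1
    let ψ : (Fin (n + 1) → A) →ₗ[A] M := Fintype.linearCombination A (Fin.cons s y)
    have hψ : ∀ v, ψ v = v 0 • s + ∑ i, v i.succ • y i := fun v => by
      simp [ψ, Fintype.linearCombination_apply, Fin.sum_univ_succ]
    have hq : ∀ v, (span A {s}).mkQ (ψ v) = (eN.symm fun i => v i.succ).1 := fun v => by
      rw [hψ, map_add, map_smul, map_sum]
      have : (span A {s}).mkQ s = 0 := (Submodule.Quotient.mk_eq_zero _).2 (mem_span_singleton_self s)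
      rw [this, smul_zero, zero_add]
      have hdec : (fun i : Fin n => v i.succ) = ∑ i, v i.succ • (Pi.single i 1 : Fin n → A) := pi_eq_sum_univ' _
      rw [hdec, map_sum, Submodule.coe_sum]
      refine Finset.sum_congr rfl fun i _ => ?_
      rw [map_smul, map_smul, Submodule.coe_smul]
      exact congrArg _ (hy i)
    have hψi : Function.Injective ψ := (injective_iff_map_eq_zero ψ).2 fun v hv => by
      have h1 := hq v
      rw [hv, map_zero] at h1
      have h2 : (fun i : Fin n => v i.succ) = 0 := eN.symm.injective (by rw [map_zero]; exact Subtype.ext h1.symm)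
      have h3 := hψ v
      rw [hv] at h3
      simp only [fun i => show v (Fin.succ i) = 0 from congrFun h2 i, zero_smul, Finset.sum_const_zero, add_zero] at h3
      ext i
      exact Fin.cases (hinj _ h3.symm) (fun i => congrFun h2 i) i
    have hr : LinearMap.range ψ = N'.comap (span A {s}).mkQ := by
      refine le_antisymm (by rintro _ ⟨v, rfl⟩; rw [mem_comap, hq]; exact Subtype.prop _) fun x hx => ?_
      let w : Fin n → A := eN ⟨_, hx⟩
      have h1 := hq (Fin.cons 0 w)
      simp only [Fin.cons_succ, w, LinearEquiv.symm_apply_apply] at h1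
      obtain ⟨c, hc⟩ := mem_span_singleton.1 ((Submodule.Quotient.eq _).1 h1.symm)
      refine ⟨Fin.cons c w, ?_⟩
      rw [hψ] at hc ⊢
      simp only [Fin.cons_succ, Fin.cons_zero, zero_smul, zero_add, w] at hc ⊢
      rw [hc, sub_add_cancel]
    refine ⟨LinearMap.range ψ, ⟨(LinearEquiv.ofInjective ψ hψi).symm⟩, fun p hp => ?_⟩
    obtain ⟨e⟩ := hN' p hp
    let S := p.asIdeal.primeCompl
    have hle : span A {s} ≤ LinearMap.range ψ := span_le.2 (by
      rintro _ rfl; exact ⟨Pi.single 0 1, by simp [hψ, Pi.single_apply, Fin.succ_ne_zero]⟩)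
    have hmap : (LinearMap.range ψ).map (span A {s}).mkQ = N' := by
      rw [hr, map_comap_eq_of_surjective (Submodule.mkQ_surjective _)]
    let eq1 : (M ⧸ LinearMap.range ψ) ≃ₗ[A] ((M ⧸ span A {s}) ⧸ N') :=
      (Submodule.quotientQuotientEquivQuotient _ _ hle).symm ≪≫ₗ Submodule.quotEquivOfEq _ _ hmap
    have : IsLocalizedModule S ((LocalizedModule.mkLinearMap S ((M ⧸ span A {s}) ⧸ N')) ∘ₗ eq1.toLinearMap) :=
      IsLocalizedModule.of_linearEquiv_right ..
    exact ⟨LinearEquiv.extendScalarsOfIsLocalization S (Localization.AtPrime p.asIdeal)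
      (IsLocalizedModule.linearEquiv S (LocalizedModule.mkLinearMap S (M ⧸ LinearMap.range ψ))
        ((LocalizedModule.mkLinearMap S ((M ⧸ span A {s}) ⧸ N')) ∘ₗ eq1.toLinearMap)) ≪≫ₗ e⟩

end Split

end GrothLib.BassSplit
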